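import Groth.Agent.H5.FilKInj.FunctorCat

/-!
# Fibrant complexes (K-injective with injective terms): two-out-of-three for degreewise split
short exact sequences; `quasiIso_τ₁`; complexes of functors from functors to complexes.
-/

set_option autoImplicit false
universe v u
open CategoryTheory Limits

namespace Groth.Agent.H5.FilKInj

variable {A : Type u} [Category.{v} A] [Abelian A]

/-- Fibrant complexes: K-injective with injective terms. -/
def Fib (I : CochainComplex A ℤ) : Prop := I.IsKInjective ∧ ∀ n, Injective (I.X n)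

theorem Fib.of_iso {I I' : CochainComplex A ℤ} (e : I ≅ I') (h : Fib I) : Fib I' :=
  ⟨haveI := h.1; CochainComplex.isKInjective_of_iso e, fun n =>
    Injective.of_iso ((HomologicalComplex.eval A (ComplexShape.up ℤ) n).mapIso e) (h.2 n)⟩

theorem injective_of_retract {X Y : A} (i : X ⟶ Y) (r : Y ⟶ X) (h : i ≫ r = 𝟙 X)
    [Injective Y] : Injective X :=
  ⟨fun g f _ => ⟨Injective.factorThru (g ≫ i) f ≫ r, by
    rw [← Category.assoc, Injective.comp_factorThru, Category.assoc, h, Category.comp_id]⟩⟩

section Split

variable (S : ShortComplex (CochainComplex A ℤ))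
  (σ : ∀ n, (S.map (HomologicalComplex.eval A (ComplexShape.up ℤ) n)).Splitting)

include σ

theorem distinguished_of_split :
    CochainComplex.trianglehOfDegreewiseSplit S σ ∈
      Pretriangulated.distinguishedTriangles := by
  rw [HomotopyCategory.distinguished_iff_iso_trianglehOfDegreewiseSplit]
  exact ⟨S, σ, ⟨Iso.refl _⟩⟩

theorem isKInjective_X₁_of_split [S.X₂.IsKInjective] [S.X₃.IsKInjective] :
    S.X₁.IsKInjective := by
  rw [CochainComplex.isKInjective_iff_rightOrthogonal]
  exact ObjectProperty.ext_of_isTriangulatedClosed₁ _ _ (distinguished_of_split S σ)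
    (CochainComplex.IsKInjective.rightOrthogonal S.X₂)
    (CochainComplex.IsKInjective.rightOrthogonal S.X₃)

theorem isKInjective_X₃_of_split [S.X₁.IsKInjective] [S.X₂.IsKInjective] :
    S.X₃.IsKInjective := by
  rw [CochainComplex.isKInjective_iff_rightOrthogonal]
  exact ObjectProperty.ext_of_isTriangulatedClosed₃ _ _ (distinguished_of_split S σ)
    (CochainComplex.IsKInjective.rightOrthogonal S.X₁)
    (CochainComplex.IsKInjective.rightOrthogonal S.X₂)

theorem fib_X₁_of_split (h₂ : Fib S.X₂) (h₃ : Fib S.X₃) : Fib S.X₁ := by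
  have := h₂.1
  have := h₃.1
  refine ⟨isKInjective_X₁_of_split S σ, fun n => ?_⟩
  have : Injective (S.X₂.X n) := h₂.2 n
  exact injective_of_retract (Y := S.X₂.X n) (S.f.f n) (σ n).r (σ n).f_r

theorem fib_X₃_of_split (h₁ : Fib S.X₁) (h₂ : Fib S.X₂) : Fib S.X₃ := by
  have := h₁.1
  have := h₂.1
  refine ⟨isKInjective_X₃_of_split S σ, fun n => ?_⟩
  have : Injective (S.X₂.X n) := h₂.2 n
  exact injective_of_retract (Y := S.X₂.X n) (σ n).s (S.g.f n) (σ n).s_g

end Split

/-- The kernel of a degreewise split epimorphism between fibrant complexes is fibrant. -/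
theorem fib_kernel {X Y : CochainComplex A ℤ} (q : X ⟶ Y) (hX : Fib X) (hY : Fib Y)
    (hq : ∀ n, ∃ s : Y.X n ⟶ X.X n, s ≫ q.f n = 𝟙 _) : Fib (kernel q) := by
  have hepi : ∀ n, Epi (q.f n) := fun n => by
    obtain ⟨s, hs⟩ := hq n
    exact epi_of_epi_fac hs
  have : Epi q := HomologicalComplex.epi_of_epi_f q hepi
  let S := ShortComplex.mk (kernel.ι q) q (kernel.condition q)
  have hS : S.ShortExact :=
    { exact := ShortComplex.exact_of_f_is_kernel S (kernelIsKernel q) }
  have hSn := fun n => hS.map_of_exact (HomologicalComplex.eval A (ComplexShape.up ℤ) n)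
  exact fib_X₁_of_split S (fun n => ShortComplex.Splitting.ofExactOfSection _ (hSn n).exact
    (hq n).choose (hq n).choose_spec (hSn n).mono_f) hX hY

/-- The cokernel of a monomorphism between fibrant complexes is fibrant. -/
theorem fib_cokernel {X Y : CochainComplex A ℤ} (i : X ⟶ Y) [Mono i] (hX : Fib X)
    (hY : Fib Y) : Fib (cokernel i) := by
  let S := ShortComplex.mk i (cokernel.π i) (cokernel.condition i)
  have hS : S.ShortExact := { exact := ShortComplex.exact_cokernel i }
  have hSn := fun n => hS.map_of_exact (HomologicalComplex.eval A (ComplexShape.up ℤ) n)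
  exact fib_X₃_of_split S (fun n =>
    haveI : Injective (S.map (HomologicalComplex.eval A (ComplexShape.up ℤ) n)).X₁ := hX.2 n
    haveI := (hSn n).mono_f
    ShortComplex.Splitting.ofExactOfRetraction _ (hSn n).exact
      (Injective.factorThru (𝟙 _) (S.map (HomologicalComplex.eval A (ComplexShape.up ℤ) n)).f)
      (Injective.comp_factorThru _ _) (hSn n).epi_g) hX hY

/-- Two-out-of-three for quasi-isomorphisms in morphisms of short exact sequences. -/
theorem quasiIso_τ₁ {S₁ S₂ : ShortComplex (CochainComplex A ℤ)} (φ : S₁ ⟶ S₂)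
    (hS₁ : S₁.ShortExact) (hS₂ : S₂.ShortExact) (h₂ : QuasiIso φ.τ₂) (h₃ : QuasiIso φ.τ₃) :
    QuasiIso φ.τ₁ := by
  rw [quasiIso_iff]
  intro j
  rw [quasiIsoAt_iff_isIso_homologyMap]
  have hij : (ComplexShape.up ℤ).Rel (j - 1) j := by simp
  have e0 : Epi (HomologicalComplex.homologyMap φ.τ₂ (j - 1)) := inferInstance
  have e1 : IsIso (HomologicalComplex.homologyMap φ.τ₃ (j - 1)) := inferInstance
  have e3 : IsIso (HomologicalComplex.homologyMap φ.τ₂ j) := inferInstance
  have e4 : Mono (HomologicalComplex.homologyMap φ.τ₃ j) := inferInstance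
  exact Abelian.isIso_of_epi_of_isIso_of_isIso_of_mono
    (HomologicalComplex.HomologySequence.composableArrows₅_exact hS₁ (j - 1) j hij).δ₀
    (HomologicalComplex.HomologySequence.composableArrows₅_exact hS₂ (j - 1) j hij).δ₀
    (ComposableArrows.δ₀Functor.map
      (HomologicalComplex.HomologySequence.mapComposableArrows₅ φ hS₁ hS₂ (j - 1) j hij))
    e0 e1 e3 e4

section OfFunctor

variable {T : Type*} [Category T] {V : Type*} [Category V] [HasZeroMorphisms V] {ι : Type*}
  {c : ComplexShape ι}

/-- A functor to complexes gives a complex of functors. -/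
@[simps]
def ofFunctor (G : T ⥤ HomologicalComplex V c) : HomologicalComplex (T ⥤ V) c where
  X i := G ⋙ HomologicalComplex.eval V c i
  d i j :=
    { app := fun t => (G.obj t).d i j
      naturality := fun t t' f => (G.map f).comm i j }
  shape i j h := by
    ext t
    exact (G.obj t).shape i j h
  d_comp_d' i j k _ _ := by
    ext t
    exact (G.obj t).d_comp_d i j k

end OfFunctor

end Groth.Agent.H5.FilKInj
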