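import Groth.Agent.H5.KInj.Derives
import Mathlib.CategoryTheory.Adjunction.Evaluation
import Mathlib.CategoryTheory.Generator.Presheaf
import Mathlib.CategoryTheory.Abelian.GrothendieckAxioms.FunctorCategory
import Mathlib.Algebra.Homology.Functor
import Mathlib.Algebra.Homology.HomotopyCategory.KInjective
import Mathlib.Algebra.Homology.HomotopyCategory.DegreewiseSplit
import Mathlib.Algebra.Homology.HomologySequenceLemmas
import Mathlib.CategoryTheory.Triangulated.Orthogonal

/-!
# Functor categories from a thin small category to a Grothendieck abelian category: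
evaluation functors preserve (K-)injectives, transition maps of injectives are split epis.
-/

set_option autoImplicit false
universe v u
open CategoryTheory Limits

namespace Groth.Agent.H5.FilKInj

open Groth.Agent.H5.KInjDer

variable {A : Type u} [Category.{v} A] [Abelian A]

section Adj

variable {B : Type*} [Category B] [Abelian B] {L : A ⥤ B} {R : B ⥤ A} (adj : L ⊣ R)
  [L.Additive] [R.Additive] [PreservesFiniteLimits L] [PreservesFiniteColimits L]

include adj in
/-- The right adjoint of an exact functor preserves K-injective complexes. -/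
theorem isKInjective_map_of_adj (I : CochainComplex B ℤ) [I.IsKInjective] :
    CochainComplex.IsKInjective ((R.mapHomologicalComplex (ComplexShape.up ℤ)).obj I) where
  nonempty_homotopy_zero {K} f hK := by
    let aC := adjC adj (ComplexShape.up ℤ)
    let f' : (L.mapHomologicalComplex (ComplexShape.up ℤ)).obj K ⟶ I := (aC.homEquiv K I).symm f
    have hf : f = aC.unit.app K ≫ (R.mapHomologicalComplex (ComplexShape.up ℤ)).map f' := by
      have := aC.homEquiv_unit (X := K) (Y := I) (f := f')
      rw [← this, Equiv.apply_symm_apply]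
    have hLK : ((L.mapHomologicalComplex (ComplexShape.up ℤ)).obj K).Acyclic := fun i =>
      (hK i).map L
    have h : Homotopy f' 0 := CochainComplex.IsKInjective.homotopyZero f' hLK
    refine ⟨(Homotopy.ofEq hf).trans (((R.mapHomotopy h).compLeft (aC.unit.app K)).trans
      (Homotopy.ofEq ?_))⟩
    simp

end Adj

section Thin

variable {T : Type} [SmallCategory T] [Quiver.IsThin T] [HasCoproducts.{0} A]

theorem isZero_sigma_of_isEmpty {β : Type} [IsEmpty β] (f : β → A) : IsZero (∐ f) := by
  rw [IsZero.iff_id_eq_zero]
  apply Sigma.hom_ext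
  intro b
  exact isEmptyElim b

set_option backward.isDefEq.respectTransparency false in
theorem mono_map_evaluationLeftAdjoint (c : T) {d d' : A} (f : d ⟶ d') [Mono f] :
    Mono ((evaluationLeftAdjoint A c).map f) := by
  rw [NatTrans.mono_iff_mono_app']
  intro t
  by_cases hne : Nonempty (c ⟶ t)
  · obtain ⟨h₀⟩ := hne
    have : Unique (c ⟶ t) := ⟨⟨h₀⟩, fun _ => Subsingleton.elim _ _⟩
    have : ((evaluationLeftAdjoint A c).map f).app t =
        (coproductUniqueIso (fun _ : c ⟶ t => d)).hom ≫ f ≫
          (coproductUniqueIso (fun _ : c ⟶ t => d')).inv := by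
      rw [← cancel_epi (coproductUniqueIso (fun _ : c ⟶ t => d)).inv, Iso.inv_hom_id_assoc,
        coproductUniqueIso_inv, coproductUniqueIso_inv]
      simp
    rw [this]
    infer_instance
  · have : IsEmpty (c ⟶ t) := not_nonempty_iff.1 hne
    have hz : IsZero (((evaluationLeftAdjoint A c).obj d).obj t) :=
      isZero_sigma_of_isEmpty _
    exact ⟨fun _ _ _ => hz.eq_of_tgt _ _⟩

instance (c : T) : (evaluationLeftAdjoint A c).PreservesMonomorphisms :=
  ⟨fun f _ => mono_map_evaluationLeftAdjoint c f⟩

theorem additive_evaluationLeftAdjoint (c : T) : (evaluationLeftAdjoint A c).Additive := by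
  have := (evaluationAdjunctionRight A c).leftAdjoint_preservesColimits
  have : PreservesBinaryBiproducts (evaluationLeftAdjoint A c) :=
    preservesBinaryBiproducts_of_preservesBinaryCoproducts _
  exact Functor.additive_of_preservesBinaryBiproducts _

theorem preservesFiniteLimits_evaluationLeftAdjoint (c : T) :
    PreservesFiniteLimits (evaluationLeftAdjoint A c) := by
  have := (evaluationAdjunctionRight A c).leftAdjoint_preservesColimits
  have := additive_evaluationLeftAdjoint (A := A) c
  have : (evaluationLeftAdjoint A c).PreservesHomology :=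
    (evaluationLeftAdjoint A c).preservesHomology_of_preservesMonos_and_cokernels
  exact (evaluationLeftAdjoint A c).preservesFiniteLimits_of_preservesHomology

/-- Evaluation preserves injective objects. -/
theorem injective_eval (X : T ⥤ A) [Injective X] (c : T) : Injective (X.obj c) :=
  Injective.injective_of_adjoint (evaluationAdjunctionRight A c) X

/-- Evaluation preserves K-injective complexes. -/
theorem isKInjective_eval (𝒥 : CochainComplex (T ⥤ A) ℤ) [𝒥.IsKInjective] (c : T) :
    CochainComplex.IsKInjective
      ((((evaluation T A).obj c).mapHomologicalComplex (ComplexShape.up ℤ)).obj 𝒥) := by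
  have := preservesFiniteLimits_evaluationLeftAdjoint (A := A) c
  have := (evaluationAdjunctionRight A c).leftAdjoint_preservesColimits
  have := additive_evaluationLeftAdjoint (A := A) c
  exact isKInjective_map_of_adj (evaluationAdjunctionRight A c) 𝒥

set_option backward.isDefEq.respectTransparency false in
/-- The comparison `L_t E ⟶ L_s E` induced by `g : s ⟶ t`. -/
noncomputable def τ {s t : T} (g : s ⟶ t) (E : A) :
    (evaluationLeftAdjoint A t).obj E ⟶ (evaluationLeftAdjoint A s).obj E where
  app r := Sigma.desc (fun h : t ⟶ r => Sigma.ι (fun _ : s ⟶ r => E) (g ≫ h))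
  naturality r r' k := by
    apply Sigma.hom_ext
    intro h
    simp [evaluationLeftAdjoint_obj_map]

set_option backward.isDefEq.respectTransparency false in
theorem mono_τ {s t : T} (g : s ⟶ t) (E : A) : Mono (τ g E) := by
  rw [NatTrans.mono_iff_mono_app']
  intro r
  by_cases hne : Nonempty (t ⟶ r)
  · obtain ⟨h₀⟩ := hne
    have : Unique (t ⟶ r) := ⟨⟨h₀⟩, fun _ => Subsingleton.elim _ _⟩
    have : Unique (s ⟶ r) := ⟨⟨g ≫ h₀⟩, fun _ => Subsingleton.elim _ _⟩
    have : (τ g E).app r = (coproductUniqueIso (fun _ : t ⟶ r => E)).hom ≫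
        (coproductUniqueIso (fun _ : s ⟶ r => E)).inv := by
      rw [← cancel_epi (coproductUniqueIso (fun _ : t ⟶ r => E)).inv, Iso.inv_hom_id_assoc,
        coproductUniqueIso_inv, coproductUniqueIso_inv]
      dsimp [τ]
      simp only [colimit.ι_desc, Cofan.mk_ι_app]
      congr 1
      exact Subsingleton.elim _ _
    rw [this]
    infer_instance
  · have : IsEmpty (t ⟶ r) := not_nonempty_iff.1 hne
    have hz : IsZero (((evaluationLeftAdjoint A t).obj E).obj r) := isZero_sigma_of_isEmpty _
    exact ⟨fun _ _ _ => hz.eq_of_tgt _ _⟩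

set_option backward.isDefEq.respectTransparency false in
/-- Transition maps of injective objects of a functor category (from a thin category) are
split epimorphisms. -/
theorem exists_section (X : T ⥤ A) [Injective X] {s t : T} (g : s ⟶ t) :
    ∃ σ : X.obj t ⟶ X.obj s, σ ≫ X.map g = 𝟙 _ := by
  let E := X.obj t
  let α : (evaluationLeftAdjoint A t).obj E ⟶ X := (evaluationAdjunctionRight A t).counit.app X
  have := mono_τ g E
  let β : (evaluationLeftAdjoint A s).obj E ⟶ X := Injective.factorThru α (τ g E)
  have hβ : τ g E ≫ β = α := Injective.comp_factorThru α (τ g E)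
  refine ⟨Sigma.ι (fun _ : s ⟶ s => E) (𝟙 s) ≫ β.app s, ?_⟩
  have h1 := β.naturality g
  have h2 := congr_app hβ t
  have h3 : Sigma.ι (fun _ : t ⟶ t => E) (𝟙 t) ≫ α.app t = 𝟙 E := by
    dsimp [α]
    refine (Sigma.ι_desc _ _).trans ?_
    dsimp
    rw [Category.id_comp]
    exact X.map_id t
  rw [Category.assoc, ← h1, ← h3, ← h2]
  dsimp [τ]
  simp

end Thin

end Groth.Agent.H5.FilKInj
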